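-- Team project FOT (S3999): package [CNT] (helper9).
import Mathlib
import Cfsg.Agent.Lib.Helper50.FOT.Defs

set_option autoImplicit false
open scoped Pointwise

namespace Cfsg.Agent.Lib.Helper9.FOT

universe u

theorem fot_orderOf_conj {X : Type u} [Group X] (g c : X) :
    orderOf (g * c * g⁻¹) = orderOf c := by
  have := MulEquiv.orderOf_eq (MulAut.conj g) c
  rwa [MulAut.conj_apply] at this

/-- [CNT]. -/
theorem pkgCnt : Cfsg.Agent.Lib.Helper50.FOT.PkgCnt.{u} := by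
  intro X _ _ K C hFD m hm1 hcop
  have hKn := hFD.normal
  have hdisj : ∀ z : X, z ∈ K → z ∈ C → z = 1 := by
    intro z hzK hzC
    have h := hFD.compl.disjoint
    have hz : z ∈ K ⊓ C := ⟨hzK, hzC⟩
    rw [h.eq_bot] at hz
    exact Subgroup.mem_bot.mp hz
  let φ : ↥K × {y : ↥C // orderOf y = m} → {x : X // orderOf x = m} := fun a =>
    ⟨(a.1 : X) * ((a.2.1 : ↥C) : X) * (a.1 : X)⁻¹, by
      rw [fot_orderOf_conj, Subgroup.orderOf_coe]
      exact a.2.2⟩
  have hinj : Function.Injective φ := by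
    rintro ⟨k, y, hy⟩ ⟨k', y', hy'⟩ h
    have h0 : (k : X) * (y : X) * (k : X)⁻¹ = (k' : X) * (y' : X) * (k' : X)⁻¹ :=
      congrArg Subtype.val h
    have ha : ((k' : X)⁻¹ * (k : X)) ∈ K := K.mul_mem (K.inv_mem k'.2) k.2
    have h1 : (y' : X) = ((k' : X)⁻¹ * (k : X)) * (y : X) * ((k' : X)⁻¹ * (k : X))⁻¹ := by
      have h' : (y' : X) = (k' : X)⁻¹ * ((k' : X) * (y' : X) * (k' : X)⁻¹) * (k' : X) := by group
      rw [h', ← h0]
      group
    have h2 : (y' : X) * (y : X)⁻¹ ∈ K := by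
      rw [h1]
      have h' : ((k' : X)⁻¹ * (k : X)) * (y : X) * ((k' : X)⁻¹ * (k : X))⁻¹ * (y : X)⁻¹
          = ((k' : X)⁻¹ * (k : X)) * ((y : X) * ((k' : X)⁻¹ * (k : X))⁻¹ * (y : X)⁻¹) := by group
      rw [h']
      exact K.mul_mem ha (hKn.conj_mem _ (K.inv_mem ha) _)
    have h3 : (y' : X) * (y : X)⁻¹ = 1 := hdisj _ h2 (C.mul_mem y'.2 (C.inv_mem y.2))
    have h4 : (y' : X) = (y : X) := by rwa [mul_inv_eq_one] at h3
    have hy1 : (y : X) ≠ 1 := by
      intro h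
      have h' : orderOf (y : X) = 1 := by rw [h, orderOf_one]
      rw [Subgroup.orderOf_coe, hy] at h'
      exact hm1 h'
    have h5 : ((k' : X)⁻¹ * (k : X)) * (y : X) = (y : X) * ((k' : X)⁻¹ * (k : X)) := by
      have h' : ((k' : X)⁻¹ * (k : X)) * (y : X)
          = (((k' : X)⁻¹ * (k : X)) * (y : X) * ((k' : X)⁻¹ * (k : X))⁻¹)
            * ((k' : X)⁻¹ * (k : X)) := by group
      rw [h', ← h1, h4]
    have h6 := hFD.fpf (y : X) y.2 hy1 _ ha h5
    have h7 : (k : X) = (k' : X) := by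
      have h' : (k : X) = (k' : X) * ((k' : X)⁻¹ * (k : X)) := by group
      rw [h', h6, mul_one]
    have hk : k = k' := Subtype.ext h7
    have hyy : y = y' := Subtype.ext h4.symm
    subst hk
    subst hyy
    rfl
  have hsurj : Function.Surjective φ := by
    rintro ⟨x, hx⟩
    have hxK : x ∉ K := by
      intro hxK
      have h1 : orderOf x ∣ Nat.card K := by
        have h' := orderOf_dvd_natCard (⟨x, hxK⟩ : ↥K)
        rwa [← Subgroup.orderOf_coe] at h'
      rw [hx] at h1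
      exact hm1 (Nat.Coprime.eq_one_of_dvd hcop h1)
    rcases hFD.cover x with h | ⟨g, hg⟩
    · exact absurd h hxK
    · obtain ⟨c, hc, hcx⟩ := (Subgroup.mem_smul_pointwise_iff_exists _ _ _).mp hg
      have hcx' : g * c * g⁻¹ = x := by
        rw [← hcx, MulAut.smul_def, MulAut.conj_apply]
      have hbij : Function.Bijective (fun a : ↥(K : Set X) × ↥(C : Set X) => a.1.1 * a.2.1) :=
        hFD.compl
      obtain ⟨⟨⟨k, hk⟩, ⟨c', hc'⟩⟩, hkc⟩ := hbij.2 g
      have hkc' : k * c' = g := hkc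
      have hyC : c' * c * c'⁻¹ ∈ C := C.mul_mem (C.mul_mem hc' hc) (C.inv_mem hc')
      have hord : orderOf (⟨c' * c * c'⁻¹, hyC⟩ : ↥C) = m := by
        rw [← Subgroup.orderOf_coe]
        show orderOf (c' * c * c'⁻¹) = m
        rw [fot_orderOf_conj, ← hx, ← hcx', fot_orderOf_conj]
      refine ⟨(⟨k, hk⟩, ⟨⟨c' * c * c'⁻¹, hyC⟩, hord⟩), Subtype.ext ?_⟩
      show k * (c' * c * c'⁻¹) * k⁻¹ = x
      rw [← hcx', ← hkc']
      group
  have e := Equiv.ofBijective φ ⟨hinj, hsurj⟩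
  rw [← Nat.card_congr e, Nat.card_prod]

end Cfsg.Agent.Lib.Helper9.FOT
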